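import Mathlib

/-!
# Chains of p-subgroups: two cancellations

`sum_fixed_eq_zero`: for a p-element `u` the alternating sum, over all chains of non-trivial
p-subgroups normalised by `u` (the empty one included), of a function of `N(s) ∩ C(u)` vanishes.
`sum_bad_eq_zero`: the alternating sum of a function of `N(s)` over the chains that are not normal
chains vanishes.
-/

set_option autoImplicit false

namespace Cfsg.Agent.Lib.ChainSum.Chains

universe u

variable {G : Type u} [Group G]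

local notation "𝐍(" Q ")" => Subgroup.normalizer ((Q : Subgroup G) : Set G)

/-- The stabiliser of a chain. -/
abbrev stab (s : Finset (Subgroup G)) : Subgroup G :=
  ⨅ Q ∈ s, Subgroup.normalizer ((Q : Subgroup G) : Set G)

theorem mem_stab {s : Finset (Subgroup G)} {x : G} :
    x ∈ stab s ↔ ∀ Q ∈ s, x ∈ 𝐍(Q) := by
  simp [stab, Subgroup.mem_iInf]

theorem stab_le {s : Finset (Subgroup G)} {Q : Subgroup G} (hQ : Q ∈ s) : stab s ≤ 𝐍(Q) :=
  fun _ hx => mem_stab.mp hx Q hQ

theorem stab_empty : stab (∅ : Finset (Subgroup G)) = ⊤ := by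
  simp [stab]

/-- A chain of non-trivial p-subgroups. -/
def IsChainP (p : ℕ) (s : Finset (Subgroup G)) : Prop :=
  (∀ Q ∈ s, ∀ R ∈ s, Q ≤ R ∨ R ≤ Q) ∧ ∀ Q ∈ s, Q ≠ ⊥ ∧ IsPGroup p Q

open scoped Classical in
/-- Insert `R`, or delete it. -/
noncomputable def toggle (s : Finset (Subgroup G)) (R : Subgroup G) : Finset (Subgroup G) :=
  if R ∈ s then s.erase R else insert R s

theorem toggle_toggle (s : Finset (Subgroup G)) (R : Subgroup G) :
    toggle (toggle s R) R = s := by
  classical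
  by_cases h : R ∈ s
  · simp [toggle, h]
  · simp [toggle, h]

theorem mem_toggle {s : Finset (Subgroup G)} {R Q : Subgroup G} (h : Q ≠ R) :
    Q ∈ toggle s R ↔ Q ∈ s := by
  classical
  by_cases hR : R ∈ s <;> simp [toggle, hR, h]

theorem mem_toggle_self {s : Finset (Subgroup G)} {R : Subgroup G} :
    R ∈ toggle s R ↔ R ∉ s := by
  classical
  by_cases hR : R ∈ s <;> simp [toggle, hR]

theorem toggle_ne (s : Finset (Subgroup G)) (R : Subgroup G) : toggle s R ≠ s := fun h => by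
  have := mem_toggle_self (s := s) (R := R)
  rw [h] at this
  by_cases hR : R ∈ s
  · exact this.mp hR hR
  · exact hR (this.mpr hR)

theorem sign_toggle (s : Finset (Subgroup G)) (R : Subgroup G) :
    (-1 : ℤ) ^ (toggle s R).card = -(-1) ^ s.card := by
  classical
  by_cases h : R ∈ s
  · have := Finset.card_erase_add_one h
    rw [toggle, if_pos h, ← this, pow_succ]
    ring
  · rw [toggle, if_neg h, Finset.card_insert_of_notMem h, pow_succ]
    ring

theorem isChainP_toggle {p : ℕ} {s : Finset (Subgroup G)} {R : Subgroup G} (hs : IsChainP p s)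
    (hR : R ≠ ⊥) (hRp : IsPGroup p R) (hc : ∀ Q ∈ s, Q ≤ R ∨ R ≤ Q) :
    IsChainP p (toggle s R) := by
  refine ⟨fun Q hQ Q' hQ' => ?_, fun Q hQ => ?_⟩
  · by_cases h : Q = R
    · subst h
      by_cases h' : Q' = Q
      · exact Or.inl h'.ge
      · exact (hc Q' ((mem_toggle h').mp hQ')).symm
    · by_cases h' : Q' = R
      · subst h'
        exact hc Q ((mem_toggle h).mp hQ)
      · exact hs.1 Q ((mem_toggle h).mp hQ) Q' ((mem_toggle h').mp hQ')
  · by_cases h : Q = R
    · exact h ▸ ⟨hR, hRp⟩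
    · exact hs.2 Q ((mem_toggle h).mp hQ)

theorem stab_toggle {s : Finset (Subgroup G)} {R : Subgroup G} {H : Subgroup G}
    (h : stab s ⊓ H ≤ 𝐍(R)) (h' : stab (toggle s R) ⊓ H ≤ 𝐍(R)) :
    stab (toggle s R) ⊓ H = stab s ⊓ H := by
  apply le_antisymm
  · intro x hx
    refine ⟨mem_stab.mpr fun Q hQ => ?_, hx.2⟩
    by_cases hQR : Q = R
    · rw [hQR]; exact h' hx
    · exact stab_le ((mem_toggle hQR).mpr hQ) hx.1
  · intro x hx
    refine ⟨mem_stab.mpr fun Q hQ => ?_, hx.2⟩
    by_cases hQR : Q = R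
    · rw [hQR]; exact h hx
    · exact stab_le ((mem_toggle hQR).mp hQ) hx.1

/-- Joins of normalised subgroups are normalised. -/
theorem mem_normalizer_sup {x : G} {A B : Subgroup G} (hA : x ∈ 𝐍(A)) (hB : x ∈ 𝐍(B)) :
    x ∈ 𝐍(A ⊔ B) := by
  rw [Subgroup.mem_normalizer_iff_map_conj_eq] at hA hB ⊢
  rw [Subgroup.map_sup, hA, hB]

theorem mem_normalizer_inf {x : G} {A B : Subgroup G} (hA : x ∈ 𝐍(A)) (hB : x ∈ 𝐍(B)) :
    x ∈ 𝐍(A ⊓ B) := by
  rw [Subgroup.mem_normalizer_iff] at hA hB ⊢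
  exact fun h => ⟨fun hh => ⟨(hA h).mp hh.1, (hB h).mp hh.2⟩,
    fun hh => ⟨(hA h).mpr hh.1, (hB h).mpr hh.2⟩⟩

section fixed

variable [Finite G] {p : ℕ} [Fact p.Prime]

open scoped Classical in
/-- The join of the members avoiding `u`. -/
noncomputable def low (s : Finset (Subgroup G)) (u : G) : Subgroup G :=
  (s.filter fun Q => u ∉ Q).sup id

theorem low_cases {s : Finset (Subgroup G)} (hs : IsChainP p s) (u : G) :
    low s u = ⊥ ∨ (low s u ∈ s ∧ u ∉ low s u) := by
  classical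
  rcases (s.filter fun Q => u ∉ Q).eq_empty_or_nonempty with h | h
  · exact Or.inl (by rw [low, h]; exact Finset.sup_empty)
  refine Or.inr ?_
  have : low s u ∈ s.filter fun Q => u ∉ Q := by
    obtain ⟨A, hA, hmax⟩ := Finset.exists_max_image (s.filter fun Q => u ∉ Q)
      (fun Q => Nat.card Q) h
    have hle : low s u = A := le_antisymm (Finset.sup_le fun Q hQ => by
      rcases hs.1 Q (Finset.mem_filter.mp hQ).1 A (Finset.mem_filter.mp hA).1 with h' | h'
      · exact h'
      · exact (Subgroup.eq_of_le_of_card_ge h' (hmax Q hQ)).ge) (Finset.le_sup (f := id) hA)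
    rw [hle]; exact hA
  exact Finset.mem_filter.mp this

theorem low_toggle (s : Finset (Subgroup G)) (u : G) {R : Subgroup G} (hR : u ∈ R) :
    low (toggle s R) u = low s u := by
  classical
  unfold low
  congr 1
  ext Q
  simp only [Finset.mem_filter]
  constructor
  · rintro ⟨h1, h2⟩
    exact ⟨(mem_toggle (fun e : Q = R => h2 (by rw [e]; exact hR))).mp h1, h2⟩
  · rintro ⟨h1, h2⟩
    exact ⟨(mem_toggle (fun e : Q = R => h2 (by rw [e]; exact hR))).mpr h1, h2⟩

open scoped Classical in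
/-- The chains normalised by a p-element cancel. -/
theorem sum_fixed_eq_zero [Fintype (Finset (Subgroup G))] {u : G} (hu : u ≠ 1)
    (hup : ∃ k : ℕ, orderOf u = p ^ k) (F : Subgroup G → ℤ) :
    ∑ s ∈ Finset.univ.filter (fun s : Finset (Subgroup G) => IsChainP p s ∧ u ∈ stab s),
      (-1 : ℤ) ^ s.card * F (stab s ⊓ Subgroup.centralizer ({u} : Set G)) = 0 := by
  let R : Finset (Subgroup G) → Subgroup G := fun s => low s u ⊔ Subgroup.zpowers u
  have huR : ∀ s, u ∈ R s := fun s => Subgroup.mem_sup_right (Subgroup.mem_zpowers u)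
  have hnorm : ∀ s, IsChainP p s → ∀ x ∈ stab s, x ∈ 𝐍(low s u) := by
    intro s hs x hx
    rcases low_cases hs u with h | h
    · rw [h, Subgroup.normalizer_eq_top]; trivial
    · exact stab_le h.1 hx
  have hcen : ∀ s, IsChainP p s → stab s ⊓ Subgroup.centralizer ({u} : Set G) ≤ 𝐍(R s) := by
    intro s hs x hx
    refine mem_normalizer_sup (hnorm s hs x hx.1) ?_
    rw [Subgroup.mem_normalizer_iff_map_conj_eq, MonoidHom.map_zpowers]
    congr 1
    show x * u * x⁻¹ = u
    rw [Subgroup.mem_centralizer_singleton_iff.mp hx.2, mul_inv_cancel_right]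
  have hkey : ∀ s, IsChainP p s → u ∈ stab s →
      IsChainP p (toggle s (R s)) ∧ u ∈ stab (toggle s (R s)) ∧
        stab (toggle s (R s)) ⊓ Subgroup.centralizer ({u} : Set G) =
          stab s ⊓ Subgroup.centralizer ({u} : Set G) := by
    intro s hs hus
    obtain ⟨k, hk⟩ := hup
    have hzp : IsPGroup p (Subgroup.zpowers u) :=
      IsPGroup.of_card (n := k) (by rw [Nat.card_zpowers, hk])
    have hlp : IsPGroup p (low s u) := by
      rcases low_cases hs u with h | h
      · rw [h]; exact IsPGroup.of_bot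
      · exact (hs.2 _ h.1).2
    have hR1 : R s ≠ ⊥ := fun h => hu (Subgroup.mem_bot.mp (h ▸ huR s))
    have hRp : IsPGroup p (R s) := IsPGroup.to_sup_of_normal_left' hlp hzp
      (Subgroup.zpowers_le.mpr (hnorm s hs u hus))
    have hc : IsChainP p (toggle s (R s)) := isChainP_toggle hs hR1 hRp fun Q hQ => by
      by_cases hq : u ∈ Q
      · refine Or.inr (sup_le ?_ (Subgroup.zpowers_le.mpr hq))
        rcases low_cases hs u with h | h
        · rw [h]; exact bot_le
        · exact (hs.1 _ h.1 Q hQ).resolve_right fun hle => h.2 (hle hq)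
      · exact Or.inl (le_sup_of_le_left
          (Finset.le_sup (f := id) (Finset.mem_filter.mpr ⟨hQ, hq⟩)))
    refine ⟨hc, mem_stab.mpr fun Q hQ => ?_, stab_toggle (hcen s hs) ?_⟩
    · by_cases hQR : Q = R s
      · rw [hQR]; exact Subgroup.le_normalizer (huR s)
      · exact stab_le ((mem_toggle hQR).mp hQ) hus
    · have := hcen _ hc
      simpa only [R, low_toggle s u (huR s)] using this
  refine Finset.sum_involution (fun s _ => toggle s (R s)) (fun s hs => ?_)
    (fun s _ _ => toggle_ne s (R s)) (fun s hs => ?_) (fun s hs => ?_)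
  · obtain ⟨h1, h2⟩ := (Finset.mem_filter.mp hs).2
    rw [(hkey s h1 h2).2.2, sign_toggle]
    ring
  · obtain ⟨h1, h2⟩ := (Finset.mem_filter.mp hs).2
    exact Finset.mem_filter.mpr ⟨Finset.mem_univ _, (hkey s h1 h2).1, (hkey s h1 h2).2.1⟩
  · show toggle (toggle s (R s)) (R (toggle s (R s))) = s
    simp only [R, low_toggle s u (huR s)]
    exact toggle_toggle _ _

end fixed

section bad

variable [Finite G] {p : ℕ} [Fact p.Prime]

/-- A member that does not normalise a member below it. -/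
def Bad (s : Finset (Subgroup G)) (Q : Subgroup G) : Prop :=
  Q ∈ s ∧ ∃ Q' ∈ s, Q' ≤ Q ∧ ¬ Q ≤ 𝐍(Q')

open scoped Classical in
/-- The subgroup to be toggled below a bad member. -/
noncomputable def piv (s : Finset (Subgroup G)) (B : Subgroup G) : Subgroup G :=
  B ⊓ stab (s.filter fun Q => Q < B)

theorem exists_least {s : Finset (Subgroup G)} (hs : IsChainP p s) (h : ∃ Q, Bad s Q) :
    ∃ B, Bad s B ∧ ∀ Q, Bad s Q → B ≤ Q := by
  classical
  obtain ⟨Q₀, hQ₀⟩ := h
  obtain ⟨B, hB, hmin⟩ := Finset.exists_min_image (s.filter fun Q => Bad s Q)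
    (fun Q => Nat.card Q) ⟨Q₀, Finset.mem_filter.mpr ⟨hQ₀.1, hQ₀⟩⟩
  refine ⟨B, (Finset.mem_filter.mp hB).2, fun Q hQ => ?_⟩
  rcases hs.1 B (Finset.mem_filter.mp hB).1 Q hQ.1 with h' | h'
  · exact h'
  · exact (Subgroup.eq_of_le_of_card_ge h' (hmin Q (Finset.mem_filter.mpr ⟨hQ.1, hQ⟩))).ge

theorem eq_of_inf_normalizer {R X : Subgroup G} (hX : IsPGroup p X) (hRX : R ≤ X)
    (h : X ⊓ 𝐍(R) ≤ R) : R = X := by
  by_contra hne
  haveI := hX.isNilpotent
  have hlt : R.subgroupOf X < ⊤ := by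
    rw [lt_top_iff_ne_top, Ne, Subgroup.subgroupOf_eq_top]
    exact fun h' => hne (le_antisymm hRX h')
  have h1 := normalizerCondition_of_isNilpotent (G := X) _ hlt
  obtain ⟨z, hz, hz'⟩ := SetLike.exists_of_lt h1
  refine hz' (h ⟨z.2, ?_⟩)
  show (z : G) ∈ 𝐍(R)
  rw [Subgroup.mem_normalizer_iff] at hz ⊢
  intro g
  constructor
  · intro hg
    exact (hz ⟨g, hRX hg⟩).mp hg
  · intro hg
    have hgX : g ∈ X := by
      have := X.mul_mem (X.mul_mem (X.inv_mem z.2) (hRX hg)) z.2
      rwa [show (z : G)⁻¹ * ((z : G) * g * (z : G)⁻¹) * z = g by group] at this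
    exact (hz ⟨g, hgX⟩).mpr hg

/-- Everything needed to toggle the pivot. -/
theorem piv_spec {s : Finset (Subgroup G)} (hs : IsChainP p s) {B : Subgroup G} (hB : Bad s B)
    (hmin : ∀ Q, Bad s Q → B ≤ Q) :
    IsChainP p (toggle s (piv s B)) ∧ Bad (toggle s (piv s B)) B ∧
      (∀ Q, Bad (toggle s (piv s B)) Q → B ≤ Q) ∧
      piv (toggle s (piv s B)) B = piv s B ∧ stab s ≤ 𝐍(piv s B) := by
  classical
  set R := piv s B with hR
  have hRB : R ≤ B := inf_le_left
  have hlow : ∀ Q ∈ s, Q < B → Q ≤ R := by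
    intro Q hQ hlt
    refine le_inf hlt.le fun x hx => mem_stab.mpr fun Q' hQ' => ?_
    obtain ⟨hQ's, -⟩ := Finset.mem_filter.mp hQ'
    rcases hs.1 Q hQ Q' hQ's with h | h
    · exact Subgroup.le_normalizer (h hx)
    · by_contra hn
      exact hlt.not_ge (hmin Q ⟨hQ, Q', hQ's, h, fun h' => hn (h' hx)⟩)
  obtain ⟨Q₁, hQ₁, hQ₁B, hQ₁n⟩ := hB.2
  have hQ₁lt : Q₁ < B := lt_of_le_of_ne hQ₁B fun e => hQ₁n (e ▸ Subgroup.le_normalizer)
  have hRlt : R < B := by
    refine lt_of_le_of_ne hRB fun e => hQ₁n ?_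
    rw [← e]
    exact inf_le_right.trans (stab_le (Finset.mem_filter.mpr ⟨hQ₁, hQ₁lt⟩))
  have hR1 : R ≠ ⊥ := fun e => (hs.2 Q₁ hQ₁).1 (le_bot_iff.mp (e ▸ hlow Q₁ hQ₁ hQ₁lt))
  have hRn : ∀ Q ∈ s, Q < B → R ≤ 𝐍(Q) := fun Q hQ hlt =>
    inf_le_right.trans (stab_le (Finset.mem_filter.mpr ⟨hQ, hlt⟩))
  have hchain : IsChainP p (toggle s R) := isChainP_toggle hs hR1 ((hs.2 B hB.1).2.to_le hRB)
    fun Q hQ => by
      rcases hs.1 Q hQ B hB.1 with h | h
      · rcases eq_or_lt_of_le h with rfl | h'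
        · exact Or.inr hRB
        · exact Or.inl (hlow Q hQ h')
      · exact Or.inr (hRB.trans h)
  have hBR : B ≠ R := hRlt.ne'
  have hBmem : B ∈ toggle s R := (mem_toggle hBR).mpr hB.1
  -- the pivot is unchanged
  have hpiv : piv (toggle s R) B = R := by
    by_cases hRs : R ∈ s
    · set X := piv (toggle s R) B with hX
      have hXB : X ≤ B := inf_le_left
      have hRX : R ≤ X := le_inf hRB fun x hx => mem_stab.mpr fun Q hQ => by
        obtain ⟨h1, h2⟩ := Finset.mem_filter.mp hQ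
        have hQR : Q ≠ R := fun e => mem_toggle_self.mp (e ▸ h1) hRs
        exact hRn Q ((mem_toggle hQR).mp h1) h2 hx
      refine (eq_of_inf_normalizer ((hs.2 B hB.1).2.to_le hXB) hRX fun x hx => ?_).symm
      refine ⟨hXB hx.1, mem_stab.mpr fun Q hQ => ?_⟩
      obtain ⟨h1, h2⟩ := Finset.mem_filter.mp hQ
      by_cases hQR : Q = R
      · exact hQR ▸ hx.2
      · exact stab_le (Finset.mem_filter.mpr ⟨(mem_toggle hQR).mpr h1, h2⟩) hx.1.2
    · apply le_antisymm
      · intro x hx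
        refine ⟨hx.1, mem_stab.mpr fun Q hQ => ?_⟩
        obtain ⟨h1, h2⟩ := Finset.mem_filter.mp hQ
        have hQR : Q ≠ R := fun e => hRs (by rw [← e]; exact h1)
        exact stab_le (Finset.mem_filter.mpr ⟨(mem_toggle hQR).mpr h1, h2⟩) hx.2
      · intro x hx
        refine ⟨hRB hx, mem_stab.mpr fun Q hQ => ?_⟩
        obtain ⟨h1, h2⟩ := Finset.mem_filter.mp hQ
        by_cases hQR : Q = R
        · rw [hQR]; exact Subgroup.le_normalizer hx
        · exact hRn Q ((mem_toggle hQR).mp h1) h2 hx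
  have hbad : Bad (toggle s R) B := by
    refine ⟨hBmem, ?_⟩
    by_contra hcon
    push Not at hcon
    refine hRlt.ne ?_
    rw [← hpiv]
    refine le_antisymm inf_le_left (le_inf le_rfl fun x hx => mem_stab.mpr fun Q hQ => ?_)
    obtain ⟨h1, h2⟩ := Finset.mem_filter.mp hQ
    exact hcon Q h1 h2.le hx
  refine ⟨hchain, hbad, fun Q hQ => ?_, hpiv, fun x hx => ?_⟩
  · rcases hchain.1 B hBmem Q hQ.1 with h | h
    · exact h
    rcases eq_or_lt_of_le h with rfl | hlt
    · exact le_rfl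
    exfalso
    obtain ⟨Q', hQ', hle, hn⟩ := hQ.2
    have hQ'lt : Q' < B := lt_of_le_of_lt hle hlt
    by_cases hQR : Q = R
    · by_cases hQ'R : Q' = R
      · exact hn (hQ'R ▸ hQR ▸ Subgroup.le_normalizer)
      · exact hn (hQR ▸ hRn Q' ((mem_toggle hQ'R).mp hQ') hQ'lt)
    · have hQs := (mem_toggle hQR).mp hQ.1
      by_cases hQ'R : Q' = R
      · exact hn (((hlow Q hQs hlt).trans hQ'R.ge).trans Subgroup.le_normalizer)
      · exact hlt.not_ge (hmin Q ⟨hQs, Q', (mem_toggle hQ'R).mp hQ', hle, hn⟩)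
  · rw [hR, piv]
    refine mem_normalizer_inf (stab_le hB.1 hx) ?_
    exact Subgroup.le_normalizer (mem_stab.mpr fun Q hQ => stab_le (Finset.mem_filter.mp hQ).1 hx)

open scoped Classical in
/-- The chains that are not normal cancel. -/
theorem sum_bad_eq_zero [Fintype (Finset (Subgroup G))] (F : Subgroup G → ℤ) :
    ∑ s ∈ Finset.univ.filter (fun s : Finset (Subgroup G) => IsChainP p s ∧ ∃ Q, Bad s Q),
      (-1 : ℤ) ^ s.card * F (stab s) = 0 := by
  let B : Finset (Subgroup G) → Subgroup G := fun s =>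
    if h : ∃ B, Bad s B ∧ ∀ Q, Bad s Q → B ≤ Q then h.choose else ⊥
  have hB : ∀ s, IsChainP p s → (∃ Q, Bad s Q) → Bad s (B s) ∧ ∀ Q, Bad s Q → B s ≤ Q := by
    intro s hs hb
    have h := exists_least hs hb
    simp only [B, dif_pos h]
    exact h.choose_spec
  have hBeq : ∀ s, IsChainP p s → ∀ C, Bad s C → (∀ Q, Bad s Q → C ≤ Q) → B s = C := by
    intro s hs C h1 h2
    obtain ⟨h3, h4⟩ := hB s hs ⟨C, h1⟩
    exact le_antisymm (h4 C h1) (h2 _ h3)
  refine Finset.sum_involution (fun s _ => toggle s (piv s (B s))) (fun s hs => ?_)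
    (fun s _ _ => toggle_ne s _) (fun s hs => ?_) (fun s hs => ?_)
  all_goals obtain ⟨hc, hb⟩ := (Finset.mem_filter.mp hs).2
  all_goals obtain ⟨hb1, hb2⟩ := hB s hc hb
  all_goals obtain ⟨k1, k2, k3, k4, k5⟩ := piv_spec hc hb1 hb2
  · obtain ⟨-, -, -, -, k5'⟩ := piv_spec k1 k2 k3
    rw [k4] at k5'
    have := stab_toggle (H := ⊤) (inf_le_left.trans k5) (inf_le_left.trans k5')
    rw [inf_top_eq, inf_top_eq] at this
    rw [this, sign_toggle]
    ring
  · exact Finset.mem_filter.mpr ⟨Finset.mem_univ _, k1, B s, k2⟩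
  · show toggle (toggle s (piv s (B s)))
      (piv (toggle s (piv s (B s))) (B (toggle s (piv s (B s))))) = s
    rw [hBeq _ k1 _ k2 k3, k4, toggle_toggle]

end bad

end Cfsg.Agent.Lib.ChainSum.Chains
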