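import Cfsg.Agent.Lib.BC78.Subsections
import Cfsg.Agent.Lib.BrauerPairs.Bridge
import Cfsg.Agent.Lib.BrauerMap.ClassSum

/-!
# `k - l` as a sum over p-elements of local ranks

For a block `b` of `G` and a subgroup `H`, the characters of `H` in blocks inducing `b` satisfy
`|H| (k - l) = ∑ |H ∩ C(u)| L(H ∩ C(u))`, the sum over the non-trivial p-elements of `H`, where
`L(K)` is the sum of the ranks of the blocks of `K` inducing `b` (`count_subgroup`, `count_top`).
-/

set_option autoImplicit false
set_option linter.style.haveILetI false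

namespace Cfsg.Agent.Lib.ChainSum.Count

open MonoidAlgebra
open Cfsg.Agent.Lib.Blocks Cfsg.Agent.Lib.BrauerPairs.Center Cfsg.Agent.Lib.BrauerPairs.Conj
open Cfsg.Agent.Lib.BrauerPairs.Bridge
  (Res charP_res blk blkOf blkOf_of_mem toSet toSet_blk blk_toSet isPBlock_toSet pushIrr pushIrr_apply blkOf_pushIrr mem_toSet toSet_injective)
open Cfsg.Agent.Lib.BC78.Subsections (regSpan indBlocks mem_indBlocks)

universe u

attribute [local instance] Ideal.Quotient.field

variable {p : ℕ} [Fact p.Prime] {M : Ideal Cfsg.AlgInt} [M.IsMaximal]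

/-- A p-element. -/
def PEl (p : ℕ) {A : Type u} [Group A] (x : A) : Prop := ∃ k : ℕ, orderOf x = p ^ k

/-- A non-trivial p-element. -/
def PNe (p : ℕ) {A : Type u} [Group A] (x : A) : Prop := PEl p x ∧ x ≠ 1

section additivity

variable {A : Type u} [Group A] [Finite A]

/-- The characters in the blocks of a finite set. -/
def chars (S : Finset (Set (Cfsg.IrrCharacter A))) : Set (Cfsg.IrrCharacter A) :=
  {ψ | ∃ β ∈ S, ψ ∈ β}

omit [Fact p.Prime] in
theorem card_chars (S : Finset (Set (Cfsg.IrrCharacter A))) (hS : ∀ β ∈ S, Cfsg.IsPBlock M β) :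
    Nat.card (chars S) = ∑ β ∈ S, Nat.card β := by
  classical
  letI := Fintype.ofFinite (Cfsg.IrrCharacter A)
  simp only [Nat.card_eq_card_toFinset]
  rw [← Finset.card_biUnion]
  · congr 1
    ext ψ
    rw [Set.mem_toFinset, Finset.mem_biUnion]
    simp only [Set.mem_toFinset]
    rfl
  · intro β hβ β' hβ' hne
    rw [Function.onFun, Finset.disjoint_left]
    intro ψ h h'
    rw [Set.mem_toFinset] at h h'
    exact hne ((isPBlock_eq_blockOf (hS β hβ) h).trans (isPBlock_eq_blockOf (hS β' hβ') h').symm)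

theorem rank_chars (hM : Cfsg.IsPModular p M) (S : Finset (Set (Cfsg.IrrCharacter A)))
    (hS : ∀ β ∈ S, Cfsg.IsPBlock M β) :
    Cfsg.blockRank p (chars S) = ∑ β ∈ S, Cfsg.blockRank p β := by
  classical
  haveI := Fintype.ofFinite A
  refine le_antisymm ?_ ?_
  · show Module.finrank ℂ (regSpan p (chars S)) ≤ _
    have hU : regSpan p (chars S) ≤ S.sup fun β => regSpan p β := by
      refine Submodule.span_le.2 ?_
      rintro _ ⟨ψ, ⟨β, hβ, hψ⟩, rfl⟩
      exact Finset.le_sup (f := fun β => regSpan p β) hβ (Submodule.subset_span ⟨ψ, hψ, rfl⟩)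
    refine (Submodule.finrank_mono hU).trans ?_
    clear hU hS
    induction S using Finset.induction_on with
    | empty => simp
    | insert β S hβS ih =>
      rw [Finset.sup_insert, Finset.sum_insert hβS]
      exact (Submodule.finrank_add_le_finrank_add_finrank _ _).trans (Nat.add_le_add le_rfl ih)
  · show _ ≤ Module.finrank ℂ (regSpan p (chars S))
    let T : (∀ β : S, regSpan p β.1) →ₗ[ℂ] regSpan p (chars S) :=
      { toFun := fun v => ⟨∑ β : S, (v β : A → ℂ), Submodule.sum_mem _ fun β _ =>
          Submodule.span_mono (Set.image_mono fun ψ (hψ : ψ ∈ β.1) => (⟨β.1, β.2, hψ⟩ : ψ ∈ chars S)) (v β).2⟩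
        map_add' := fun v w => Subtype.ext (by simp [Finset.sum_add_distrib])
        map_smul' := fun r v => Subtype.ext (by simp [Finset.smul_sum]) }
    have hinj : Function.Injective T := by
      rw [← LinearMap.ker_eq_bot, LinearMap.ker_eq_bot']
      intro v hv
      have hzero : (∑ β : S, (v β : A → ℂ)) = 0 := congrArg Subtype.val hv
      funext β
      have h := congrArg (fun f => Cfsg.classInner f (v β : A → ℂ)) hzero
      simp only [Characters.Basic.classInner_sum_left] at h
      rw [Finset.sum_eq_single β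
        (fun c _ hc => BC78.Subsections.orth hM (hS _ c.2) (hS _ β.2)
          (fun e => hc (Subtype.ext e)) (v c).2 (v β).2)
        (fun h => absurd (Finset.mem_univ _) h)] at h
      have h0 : Cfsg.classInner (v β : A → ℂ) (v β) = 0 := h.trans (by simp [Cfsg.classInner])
      rw [Cfsg.classInner, mul_eq_zero, inv_eq_zero] at h0
      have h1 := h0.resolve_left Induced.Basic.natCard_ne_zero
      simp only [Complex.mul_conj] at h1
      rw [← Complex.ofReal_sum, Complex.ofReal_eq_zero] at h1
      apply Subtype.ext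
      funext g
      exact Complex.normSq_eq_zero.1
        ((Finset.sum_eq_zero_iff_of_nonneg fun g _ => Complex.normSq_nonneg _).1 h1 g
          (Finset.mem_univ _))
    have h := LinearMap.finrank_le_finrank_of_injective hinj
    rw [Module.finrank_pi_fintype] at h
    refine le_trans (le_of_eq ?_) h
    exact (Finset.sum_coe_sort S fun β => Cfsg.blockRank p β).symm

end additivity

section transport

variable {C A : Type u} [Group C] [Group A] [Finite C] [Finite A]

/-- The image of a set of characters along an isomorphism. -/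
def push (θ : C ≃* A) (e : Set (Cfsg.IrrCharacter C)) : Set (Cfsg.IrrCharacter A) :=
  pushIrr θ '' e

omit [Finite C] [Finite A] in
theorem pushIrr_symm_pushIrr (θ : C ≃* A) (ξ : Cfsg.IrrCharacter A) :
    pushIrr θ (pushIrr θ.symm ξ) = ξ := by
  apply Subtype.ext
  funext a
  rw [pushIrr_apply, pushIrr_apply, MulEquiv.symm_symm, MulEquiv.apply_symm_apply]

omit [Finite C] [Finite A] in
theorem pushIrr_injective (θ : C ≃* A) : Function.Injective (pushIrr θ) := fun ξ η h => by
  apply Subtype.ext
  funext c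
  have := congrArg (fun z : Cfsg.IrrCharacter A => (z : A → ℂ) (θ c)) h
  simpa [pushIrr_apply] using this

theorem push_eq (θ : C ≃* A) {e : Set (Cfsg.IrrCharacter C)} (he : Cfsg.IsPBlock M e) :
    push θ e = toSet ((blk he).comp (zMap θ.symm)) := by
  ext ξ
  rw [mem_toSet]
  constructor
  · rintro ⟨η, hη, rfl⟩
    rw [blkOf_pushIrr, blkOf_of_mem he hη]
  · intro h
    refine ⟨pushIrr θ.symm ξ, ?_, pushIrr_symm_pushIrr θ ξ⟩
    rw [← toSet_blk he, mem_toSet, blkOf_pushIrr, h]
    refine AlgHom.ext fun z => ?_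
    show blk he (zMap θ.symm (zMap θ.symm.symm z)) = blk he z
    rw [MulEquiv.symm_symm, zMap_symm]

theorem isPBlock_push (θ : C ≃* A) {e : Set (Cfsg.IrrCharacter C)} (he : Cfsg.IsPBlock M e) :
    Cfsg.IsPBlock M (push θ e) := push_eq θ he ▸ isPBlock_toSet _

theorem blk_push (θ : C ≃* A) {e : Set (Cfsg.IrrCharacter C)} (he : Cfsg.IsPBlock M e) :
    blk (isPBlock_push θ he) = (blk he).comp (zMap θ.symm) :=
  toSet_injective ((toSet_blk _).trans (push_eq θ he))

omit [Fact p.Prime] [Finite C] [Finite A] in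
theorem blockRank_push (θ : C ≃* A) (e : Set (Cfsg.IrrCharacter C)) :
    Cfsg.blockRank p (push θ e) = Cfsg.blockRank p e := by
  classical
  let Φ : (C → ℂ) ≃ₗ[ℂ] (A → ℂ) := LinearEquiv.funCongrLeft ℂ ℂ θ.symm.toEquiv
  have hΦ : ∀ f a, Φ f a = f (θ.symm a) := fun _ _ => rfl
  rw [Cfsg.blockRank, Cfsg.blockRank, ← LinearEquiv.finrank_map_eq Φ (Submodule.span ℂ
      ((fun χ : Cfsg.IrrCharacter C => Cfsg.pRegularPart p (χ : C → ℂ)) '' e)), Submodule.map_span,
    push, Set.image_image, Set.image_image]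
  refine congrArg (fun S : Set (A → ℂ) => Module.finrank ℂ (Submodule.span ℂ S))
    (Set.image_congr fun ξ _ => ?_)
  funext a
  show Cfsg.pRegularPart p (pushIrr θ ξ : A → ℂ) a = Φ (Cfsg.pRegularPart p (ξ : C → ℂ)) a
  rw [hΦ, Cfsg.pRegularPart, Cfsg.pRegularPart, pushIrr_apply]
  simp only [Cfsg.IsPRegular, θ.symm.orderOf_eq]
  by_cases h : p ∣ orderOf a <;> simp [h]

end transport

section induced

variable {G : Type u} [Group G] [Finite G]

/-- Induced blocks through the restriction of central elements. -/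
theorem isInducedBlock_iff_blk {H : Subgroup G} {β : Set (Cfsg.IrrCharacter H)}
    (hβ : Cfsg.IsPBlock M β) {b : Set (Cfsg.IrrCharacter G)} (hb : Cfsg.IsPBlock M b) :
    Cfsg.IsInducedBlock M H β b ↔ ∀ z, blk hβ (resCenter H z) = blk hb z := by
  obtain ⟨ξ, hξ⟩ := isPBlock_nonempty hβ
  obtain ⟨χ, hχ⟩ := isPBlock_nonempty hb
  rw [← blkOf_of_mem hβ hξ, ← blkOf_of_mem hb hχ]
  exact ⟨fun h z => inducedBar_eq_omegaBar h hξ hχ z,
    fun h => isInducedBlock_of_inducedBar_eq hβ hb hξ hχ fun g => h _⟩

open scoped Classical in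
/-- The blocks of `K` inducing `b`. -/
noncomputable def above (M : Ideal Cfsg.AlgInt) (b : Set (Cfsg.IrrCharacter G)) (K : Subgroup G) :
    Finset (Set (Cfsg.IrrCharacter K)) :=
  (Set.toFinite {β : Set (Cfsg.IrrCharacter K) | Cfsg.IsInducedBlock M K β b}).toFinset

omit [M.IsMaximal] in
theorem mem_above {b : Set (Cfsg.IrrCharacter G)} {K : Subgroup G}
    {β : Set (Cfsg.IrrCharacter K)} : β ∈ above M b K ↔ Cfsg.IsInducedBlock M K β b := by
  simp [above]

/-- The rank of the blocks of `K` inducing `b`. -/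
noncomputable def L (p : ℕ) (M : Ideal Cfsg.AlgInt) (b : Set (Cfsg.IrrCharacter G))
    (K : Subgroup G) : ℕ :=
  ∑ β ∈ above M b K, Cfsg.blockRank p β

end induced

section classFormula

variable {A : Type u} [Group A] [Fintype A]

omit [Fact p.Prime] in
open scoped Classical in
/-- From sums over representatives to sums over elements. -/
theorem card_mul_eq_sum (f : A → ℕ) (c : ℕ)
    (h : ∀ X : Finset A, (∀ x ∈ X, PEl p x) →
      (∀ g : A, PEl p g → ∃! x, x ∈ X ∧ IsConj g x) → c = ∑ x ∈ X, f x) :
    Nat.card A * c = ∑ u ∈ Finset.univ.filter (fun u : A => PEl p u),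
      Nat.card (Subgroup.centralizer ({u} : Set A)) * f u := by
  have hpc : ∀ x y : A, IsConj x y → PEl p x → PEl p y := fun x y hxy hx => by
    obtain ⟨t, rfl⟩ := isConj_iff.mp hxy
    obtain ⟨k, hk⟩ := hx
    exact ⟨k, ((MulAut.conj t).orderOf_eq x).trans hk⟩
  let PC : Finset (ConjClasses A) :=
    (Finset.univ.filter fun u : A => PEl p u).image ConjClasses.mk
  let mkX : (ConjClasses A → A) → Finset A := fun r => PC.image r
  have hmk : ∀ r : ConjClasses A → A, (∀ C, ConjClasses.mk (r C) = C) →
      (∀ x ∈ mkX r, PEl p x) ∧ (∀ g : A, PEl p g → ∃! x, x ∈ mkX r ∧ IsConj g x) := by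
    intro r hr
    refine ⟨fun x hx => ?_, fun g hg => ⟨r (ConjClasses.mk g), ⟨?_, ?_⟩, ?_⟩⟩
    · obtain ⟨C, hC, rfl⟩ := Finset.mem_image.mp hx
      obtain ⟨u, hu, rfl⟩ := Finset.mem_image.mp hC
      exact hpc u _ (ConjClasses.mk_eq_mk_iff_isConj.mp (hr _).symm) (Finset.mem_filter.mp hu).2
    · exact Finset.mem_image.mpr ⟨_, Finset.mem_image.mpr
        ⟨g, Finset.mem_filter.mpr ⟨Finset.mem_univ _, hg⟩, rfl⟩, rfl⟩
    · exact ConjClasses.mk_eq_mk_iff_isConj.mp (hr _).symm
    · rintro x ⟨hx, hgx⟩
      obtain ⟨C, hC, rfl⟩ := Finset.mem_image.mp hx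
      rw [show C = ConjClasses.mk g from
        (hr C).symm.trans (ConjClasses.mk_eq_mk_iff_isConj.mpr hgx).symm]
  have hsum : ∀ r : ConjClasses A → A, (∀ C, ConjClasses.mk (r C) = C) →
      c = ∑ C ∈ PC, f (r C) := by
    intro r hr
    obtain ⟨h1, h2⟩ := hmk r hr
    rw [h _ h1 h2, Finset.sum_image fun a _ b _ hab => by rw [← hr a, hab, hr b]]
  let r0 : ConjClasses A → A := fun C => C.out
  have hr0 : ∀ C, ConjClasses.mk (r0 C) = C := fun C => Quotient.out_eq C
  have hinv : ∀ u : A, PEl p u → f u = f (r0 (ConjClasses.mk u)) := by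
    intro u hu
    let r1 : ConjClasses A → A := fun C => if C = ConjClasses.mk u then u else r0 C
    have hr1 : ∀ C, ConjClasses.mk (r1 C) = C := fun C => by
      by_cases hC : C = ConjClasses.mk u
      · simp [r1, hC]
      · simp [r1, hC, hr0]
    have e := (hsum r0 hr0).symm.trans (hsum r1 hr1)
    have hC : ConjClasses.mk u ∈ PC :=
      Finset.mem_image.mpr ⟨u, Finset.mem_filter.mpr ⟨Finset.mem_univ _, hu⟩, rfl⟩
    rw [← Finset.add_sum_erase _ _ hC, ← Finset.add_sum_erase _ _ hC,
      Finset.sum_congr rfl (g := fun C => f (r0 C))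
        (s₁ := PC.erase (ConjClasses.mk u)) (f := fun C => f (r1 C))
        (fun C hC' => by simp [r1, Finset.ne_of_mem_erase hC'])] at e
    have : r1 (ConjClasses.mk u) = u := if_pos rfl
    rw [this] at e
    exact (Nat.add_right_cancel e).symm
  rw [hsum r0 hr0, Finset.mul_sum,
    ← Finset.sum_fiberwise_of_maps_to (g := ConjClasses.mk) (t := PC)
      (fun u hu => Finset.mem_image_of_mem _ hu)]
  refine Finset.sum_congr rfl fun C hC => ?_
  obtain ⟨u₀, hu₀, rfl⟩ := Finset.mem_image.mp hC
  have hu₀' := (Finset.mem_filter.mp hu₀).2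
  set F := (Finset.univ.filter fun u : A => PEl p u).filter
    (fun u => ConjClasses.mk u = ConjClasses.mk u₀) with hF
  have hterm : ∀ u ∈ F, Nat.card (Subgroup.centralizer ({u} : Set A)) * f u =
      Nat.card (Subgroup.centralizer ({u₀} : Set A)) * f (r0 (ConjClasses.mk u₀)) := by
    intro u hu
    obtain ⟨h1, h2⟩ := Finset.mem_filter.mp hu
    rw [hinv u (Finset.mem_filter.mp h1).2, h2]
    congr 1
    obtain ⟨t, ht⟩ := isConj_iff.mp (ConjClasses.mk_eq_mk_iff_isConj.mp h2)
    have he : (Subgroup.centralizer ({u} : Set A)).map (MulAut.conj t).toMonoidHom =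
        Subgroup.centralizer ({u₀} : Set A) := by
      ext g
      rw [Subgroup.mem_map_equiv, Subgroup.mem_centralizer_singleton_iff,
        Subgroup.mem_centralizer_singleton_iff, MulAut.conj_symm_apply, ← ht]
      constructor
      · intro h
        calc g * (t * u * t⁻¹) = t * (t⁻¹ * g * t * u) * t⁻¹ := by group
          _ = t * (u * (t⁻¹ * g * t)) * t⁻¹ := by rw [h]
          _ = t * u * t⁻¹ * g := by group
      · intro h
        calc t⁻¹ * g * t * u = t⁻¹ * (g * (t * u * t⁻¹)) * t := by group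
          _ = t⁻¹ * (t * u * t⁻¹ * g) * t := by rw [h]
          _ = u * (t⁻¹ * g * t) := by group
    rw [← he, Subgroup.card_map_of_injective (MulAut.conj t).injective]
  rw [Finset.sum_congr rfl hterm, Finset.sum_const, smul_eq_mul, ← mul_assoc]
  congr 1
  have hcardF : F.card = (Subgroup.centralizer ({u₀} : Set A)).index := by
    rw [← BrauerMap.ClassSum.card_isConj, Nat.card_eq_fintype_card, Fintype.card_subtype]
    congr 1
    ext u
    simp only [hF, Finset.mem_filter, Finset.mem_univ, true_and, ConjClasses.mk_eq_mk_iff_isConj]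
    exact ⟨fun h => h.2.symm, fun h => ⟨hpc u₀ u h hu₀', h.symm⟩⟩
  rw [hcardF, mul_comm, Subgroup.card_mul_index]

end classFormula

section count

variable {G : Type u} [Group G] [Finite G] {A : Type u} [Group A] [Fintype A]

open scoped Classical in
/-- The count in a group `A` mapping to `G`. -/
theorem count (hM : Cfsg.IsPModular p M) {b : Set (Cfsg.IrrCharacter G)} (hb : Cfsg.IsPBlock M b)
    (r : ZAlg (Res M) G → ZAlg (Res M) A) (T : Finset (Set (Cfsg.IrrCharacter A)))
    (hT : ∀ β, β ∈ T ↔ ∃ hβ : Cfsg.IsPBlock M β, ∀ z, blk hβ (r z) = blk hb z)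
    (K : A → Subgroup G) (θ : ∀ x : A, Subgroup.centralizer ({x} : Set A) ≃* K x)
    (hθ : ∀ (x : A) (z), zMap (θ x).symm (resCenter (K x) z) =
      resCenter (Subgroup.centralizer ({x} : Set A)) (r z)) :
    (Nat.card A : ℤ) * ((∑ β ∈ T, Nat.card β : ℕ) - (∑ β ∈ T, Cfsg.blockRank p β : ℕ) : ℤ) =
      ∑ u ∈ Finset.univ.filter (fun u : A => PNe p u),
        ((Nat.card (K u) * L p M b (K u) : ℕ) : ℤ) := by
  haveI := charP_res hM
  let f : A → ℕ := fun x => ∑ β ∈ T, ∑ e ∈ indBlocks M x β, Cfsg.blockRank p e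
  have hTb : ∀ β ∈ T, Cfsg.IsPBlock M β := fun β hβ => ((hT β).mp hβ).choose
  -- transitivity of induction
  have hcomp : ∀ (x : A) (e : Set (Cfsg.IrrCharacter (Subgroup.centralizer ({x} : Set A))))
      (he : Cfsg.IsPBlock M e) (β : Set (Cfsg.IrrCharacter A)),
      Cfsg.IsInducedBlock M (Subgroup.centralizer ({x} : Set A)) e β →
        (β ∈ T ↔ Cfsg.IsInducedBlock M (K x) (push (θ x) e) b) := by
    intro x e he β hind
    have hβ := hind.2.1
    rw [hT, isInducedBlock_iff_blk (isPBlock_push (θ x) he) hb, blk_push (θ x) he]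
    have h1 := (isInducedBlock_iff_blk he hβ).mp hind
    have h2 : ∀ z, (blk he).comp (zMap (θ x).symm) (resCenter (K x) z) = blk hβ (r z) := by
      intro z
      rw [AlgHom.comp_apply, hθ, h1]
    simp only [h2]
    exact ⟨fun ⟨_, h⟩ => h, fun h => ⟨hβ, h⟩⟩
  have hf : ∀ x : A, PEl p x → f x = L p M b (K x) := by
    intro x ⟨i, hi⟩
    show (∑ β ∈ T, ∑ e ∈ indBlocks M x β, Cfsg.blockRank p e) = _
    rw [← Finset.sum_biUnion]
    · refine Finset.sum_bij (fun e _ => push (θ x) e) (fun e he => ?_) (fun e _ e' _ h => ?_)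
        (fun γ hγ => ?_) (fun e _ => (blockRank_push (θ x) e).symm)
      · obtain ⟨β, hβ, he'⟩ := Finset.mem_biUnion.mp he
        rw [mem_indBlocks] at he'
        exact mem_above.mpr ((hcomp x e he'.1 β he').mp hβ)
      · exact (pushIrr_injective (θ x)).image_injective h
      · have hγ' := mem_above.mp hγ
        have he : Cfsg.IsPBlock M (push (θ x).symm γ) := isPBlock_push _ hγ'.1
        have hpp : push (θ x) (push (θ x).symm γ) = γ := by
          show pushIrr (θ x) '' (pushIrr (θ x).symm '' γ) = γ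
          rw [Set.image_image]
          simp only [pushIrr_symm_pushIrr, Set.image_id']
        obtain ⟨β, hβ⟩ := BC78.Subsections.inducedDefined hM x hi he
        refine ⟨_, Finset.mem_biUnion.mpr ⟨β, ?_, mem_indBlocks.mpr hβ⟩, hpp⟩
        exact (hcomp x _ he β hβ).mpr (by rw [hpp]; exact hγ')
    · intro β _ β' _ hne
      rw [Function.onFun, Finset.disjoint_left]
      intro e he he'
      exact hne (eq_of_isInducedBlock (mem_indBlocks.mp he) (mem_indBlocks.mp he'))
  have hk : ∀ X : Finset A, (∀ x ∈ X, PEl p x) →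
      (∀ g : A, PEl p g → ∃! x, x ∈ X ∧ IsConj g x) → (∑ β ∈ T, Nat.card β) = ∑ x ∈ X, f x := by
    intro X h1 h2
    rw [Finset.sum_congr rfl fun β hβ =>
      BC78.Subsections.card_eq_sum hM X h1 h2 (hTb β hβ), Finset.sum_comm]
  have hmain := card_mul_eq_sum (p := p) f _ hk
  -- the term of the identity
  have h1 : f 1 = ∑ β ∈ T, Cfsg.blockRank p β := by
    refine Finset.sum_congr rfl fun β hβ => ?_
    have hC : Subgroup.centralizer ({(1 : A)} : Set A) = ⊤ := eq_top_iff.mpr fun g _ =>
      Subgroup.mem_centralizer_singleton_iff.mpr (by rw [mul_one, one_mul])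
    let ι : Subgroup.centralizer ({(1 : A)} : Set A) ≃* A :=
      (MulEquiv.subgroupCongr hC).trans Subgroup.topEquiv
    have hι : ∀ z : ZAlg (Res M) A, zMap ι.symm z =
        resCenter (Subgroup.centralizer ({(1 : A)} : Set A)) z := by
      intro z
      refine Subtype.ext (MonoidAlgebra.ext (Finsupp.ext fun h => ?_))
      rw [coeff_resCenter, coe_zMap]
      simp [ι]
    have hiff : ∀ e (he : Cfsg.IsPBlock M e), Cfsg.IsInducedBlock M
        (Subgroup.centralizer ({(1 : A)} : Set A)) e β ↔ push ι e = β := by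
      intro e he
      rw [isInducedBlock_iff_blk he (hTb β hβ)]
      simp only [← hι]
      constructor
      · intro h
        rw [← toSet_blk (isPBlock_push ι he), ← toSet_blk (hTb β hβ)]
        exact congrArg toSet (AlgHom.ext fun z => by rw [blk_push ι he]; exact h z)
      · rintro h z
        subst h
        rw [blk_push ι he]
        rfl
    have hsingle : indBlocks M (1 : A) β = {push ι.symm β} := by
      ext e
      rw [mem_indBlocks, Finset.mem_singleton]
      constructor
      · intro h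
        have h' := (hiff e h.1).mp h
        rw [← h']
        show e = pushIrr ι.symm '' (pushIrr ι '' e)
        rw [Set.image_image]
        have : ∀ ξ, pushIrr ι.symm (pushIrr ι ξ) = ξ := fun ξ => by
          have := pushIrr_symm_pushIrr ι.symm ξ
          rwa [MulEquiv.symm_symm] at this
        simp only [this, Set.image_id']
      · rintro rfl
        refine (hiff _ (isPBlock_push _ (hTb β hβ))).mpr ?_
        show pushIrr ι '' (pushIrr ι.symm '' β) = β
        rw [Set.image_image]
        simp only [pushIrr_symm_pushIrr, Set.image_id']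
    rw [hsingle, Finset.sum_singleton, blockRank_push]
  have hsplit : (Finset.univ.filter fun u : A => PEl p u) =
      insert 1 (Finset.univ.filter fun u : A => PNe p u) := by
    ext u
    simp only [Finset.mem_filter, Finset.mem_univ, true_and, Finset.mem_insert]
    constructor
    · intro hu
      by_cases h : u = 1
      · exact Or.inl h
      · exact Or.inr ⟨hu, h⟩
    · rintro (rfl | h)
      · exact ⟨0, by simp⟩
      · exact h.1
  rw [hsplit, Finset.sum_insert (fun h => (Finset.mem_filter.mp h).2.2 rfl), h1,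
    show Nat.card (Subgroup.centralizer ({(1 : A)} : Set A)) = Nat.card A by
      rw [show Subgroup.centralizer ({(1 : A)} : Set A) = ⊤ from eq_top_iff.mpr fun g _ =>
        Subgroup.mem_centralizer_singleton_iff.mpr (by rw [mul_one, one_mul]), Subgroup.card_top],
    Finset.sum_congr rfl (g := fun u => Nat.card (K u) * L p M b (K u))
      (s₁ := Finset.univ.filter fun u : A => PNe p u)
      (fun u hu => by
        rw [hf u (Finset.mem_filter.mp hu).2.1, Nat.card_congr (θ u).toEquiv])] at hmain
  rw [mul_sub, ← Nat.cast_mul, ← Nat.cast_mul, hmain, Nat.cast_add, add_sub_cancel_left,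
    Nat.cast_sum]

end count

section final

variable {G : Type u} [Group G] [Fintype G]

open scoped Classical in
/-- The count for the group itself. -/
theorem count_top (hM : Cfsg.IsPModular p M) {b : Set (Cfsg.IrrCharacter G)}
    (hb : Cfsg.IsPBlock M b) :
    (Nat.card G : ℤ) * ((Nat.card b : ℤ) - (Cfsg.blockRank p b : ℤ)) =
      ∑ u ∈ Finset.univ.filter (fun u : G => PNe p u),
        ((Nat.card (Subgroup.centralizer ({u} : Set G)) *
          L p M b (Subgroup.centralizer ({u} : Set G)) : ℕ) : ℤ) := by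
  have h := count (A := G) hM hb id {b} (fun β => by
      rw [Finset.mem_singleton]
      constructor
      · rintro rfl; exact ⟨hb, fun z => rfl⟩
      · rintro ⟨hβ, h⟩
        rw [← toSet_blk hβ, ← toSet_blk hb]
        exact congrArg toSet (AlgHom.ext h))
    (fun x => Subgroup.centralizer ({x} : Set G)) (fun x => MulEquiv.refl _) (fun x z => by
      refine Subtype.ext (MonoidAlgebra.ext (Finsupp.ext fun h => ?_))
      rw [coe_zMap]
      simp)
  simpa using h

open scoped Classical in
/-- The count for a subgroup. -/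
theorem count_subgroup (hM : Cfsg.IsPModular p M) {b : Set (Cfsg.IrrCharacter G)}
    (hb : Cfsg.IsPBlock M b) (H : Subgroup G) :
    (Nat.card H : ℤ) * ((Nat.card (chars (above M b H)) : ℤ) -
        (Cfsg.blockRank p (chars (above M b H)) : ℤ)) =
      ∑ u ∈ Finset.univ.filter (fun u : G => PNe p u ∧ u ∈ H),
        ((Nat.card (H ⊓ Subgroup.centralizer ({u} : Set G) : Subgroup G) *
          L p M b (H ⊓ Subgroup.centralizer ({u} : Set G)) : ℕ) : ℤ) := by
  letI := Fintype.ofFinite H
  have hTb : ∀ β ∈ above M b H, Cfsg.IsPBlock M β := fun β hβ => (mem_above.mp hβ).1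
  rw [card_chars _ hTb, rank_chars hM _ hTb]
  let θ : ∀ x : H, Subgroup.centralizer ({x} : Set H) ≃*
      (H ⊓ Subgroup.centralizer ({(x : G)} : Set G) : Subgroup G) := fun x =>
    { toFun := fun c => ⟨((c : H) : G), (c : H).2, Subgroup.mem_centralizer_singleton_iff.mpr
        (congrArg Subtype.val (Subgroup.mem_centralizer_singleton_iff.mp c.2))⟩
      invFun := fun c => ⟨⟨(c : G), c.2.1⟩, Subgroup.mem_centralizer_singleton_iff.mpr
        (Subtype.ext (Subgroup.mem_centralizer_singleton_iff.mp c.2.2))⟩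
      left_inv := fun _ => rfl
      right_inv := fun _ => rfl
      map_mul' := fun _ _ => rfl }
  rw [count (A := H) hM hb (resCenter H) (above M b H) (fun β => ?_)
    (fun x => H ⊓ Subgroup.centralizer ({(x : G)} : Set G)) θ (fun x z => ?_)]
  · refine Finset.sum_bij (fun u _ => (u : G)) (fun u hu => ?_)
      (fun _ _ _ _ h => Subtype.ext h) (fun u hu => ?_) (fun u _ => rfl)
    · obtain ⟨⟨k, hk⟩, h1⟩ := (Finset.mem_filter.mp hu).2
      exact Finset.mem_filter.mpr ⟨Finset.mem_univ _, ⟨⟨k, by rw [Subgroup.orderOf_coe, hk]⟩,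
        fun h => h1 (Subtype.ext h)⟩, u.2⟩
    · obtain ⟨⟨⟨k, hk⟩, h1⟩, h2⟩ := (Finset.mem_filter.mp hu).2
      exact ⟨⟨u, h2⟩, Finset.mem_filter.mpr ⟨Finset.mem_univ _,
        ⟨k, by rw [← Subgroup.orderOf_coe]; exact hk⟩, fun h => h1 (congrArg Subtype.val h)⟩, rfl⟩
  · rw [mem_above]
    exact ⟨fun h => ⟨h.1, (isInducedBlock_iff_blk h.1 hb).mp h⟩,
      fun ⟨h1, h⟩ => (isInducedBlock_iff_blk h1 hb).mpr h⟩
  · refine Subtype.ext (MonoidAlgebra.ext (Finsupp.ext fun h => ?_))
    rw [coe_zMap, coeff_resCenter, coeff_resCenter]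
    simp [coeff_resCenter, θ]

end final

end Cfsg.Agent.Lib.ChainSum.Count
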